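import Groth.Agent.Sga5.ProjSmooth
import Groth.Agent.Sga5.ProjConn
import Groth.Agent.VarietyB.DimTop
import Groth.Agent.Ega3A.PChart
import Mathlib.RingTheory.KrullDimension.Polynomial
import Mathlib.RingTheory.Spectrum.Prime.Topology
import Mathlib.AlgebraicGeometry.Morphisms.UniversallyOpen
import Mathlib.AlgebraicGeometry.PullbackCarrier

/-!
# Dimension and connectedness of projective space over a Noetherian scheme

* `topologicalKrullDim_le`: `dim P^m_X ≤ d + m` if `X` is locally Noetherian of dimension `≤ d`.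
* `connectedSpace`: `P^m_X` is connected if `X` is connected.
-/

set_option autoImplicit false
universe u

open CategoryTheory CategoryTheory.Limits AlgebraicGeometry TopologicalSpace Topology

namespace Groth.Agent.Krr.H453.PnDim

variable (m : ℕ)

theorem dim_chart_le {X : Scheme.{u}} [IsLocallyNoetherian X] (d : ℕ)
    (hd : topologicalKrullDim X ≤ (d : WithBot ℕ∞)) {V : X.Opens} (hV : IsAffineOpen V) :
    topologicalKrullDim (Spec (CommRingCat.of (MvPolynomial (Fin m) Γ(X, V)))) ≤ ((d + m : ℕ) : WithBot ℕ∞) := by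
  have h1 : ringKrullDim Γ(X, V) ≤ (d : WithBot ℕ∞) := by
    rw [← PrimeSpectrum.topologicalKrullDim_eq_ringKrullDim]
    exact (hV.fromSpec.isOpenEmbedding.isInducing.topologicalKrullDim_le).trans hd
  have : IsNoetherianRing Γ(X, V) := IsLocallyNoetherian.component_noetherian ⟨V, hV⟩
  have h2 : topologicalKrullDim (Spec (CommRingCat.of (MvPolynomial (Fin m) Γ(X, V)))) =
      ringKrullDim (MvPolynomial (Fin m) Γ(X, V)) := PrimeSpectrum.topologicalKrullDim_eq_ringKrullDim _
  rw [h2, MvPolynomial.ringKrullDim_of_isNoetherianRing, Nat.card_eq_fintype_card, Fintype.card_fin]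
  push_cast
  gcongr

theorem exists_preimage_of_isPullback {P X Y Z : Scheme.{u}} {fst : P ⟶ X} {snd : P ⟶ Y} {f : X ⟶ Z}
    {g : Y ⟶ Z} (h : IsPullback fst snd f g) (x : X) (y : Y) (hxy : f x = g y) :
    ∃ z : P, fst z = x ∧ snd z = y := by
  obtain ⟨w, hw1, hw2⟩ := Scheme.Pullback.exists_preimage_pullback (f := f) (g := g) x y hxy
  refine ⟨h.isoPullback.inv w, ?_, ?_⟩
  · rw [← Scheme.Hom.comp_apply, h.isoPullback_inv_fst, hw1]
  · rw [← Scheme.Hom.comp_apply, h.isoPullback_inv_snd, hw2]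

theorem exists_affine_chart {X : Scheme.{u}} (y : CohB1.ProjSpaceOver m X) :
    ∃ (V : X.Opens) (hV : IsAffineOpen V) (i : Fin (m + 1)),
      y ∈ (Sga5.ProjSmooth.chart m Γ(X, V) i ≫ Ega3A.PChart.chart m (A := Γ(X, V)) hV.fromSpec).opensRange := by
  obtain ⟨V, hV, hyV, -⟩ := exists_isAffineOpen_mem_and_subset
    (x := CohB1.ProjSpaceOver.toBase m X y) (U := ⊤) trivial
  refine ⟨V, hV, ?_⟩
  have h1 : y ∈ Set.range (Ega3A.PChart.chart m (A := Γ(X, V)) hV.fromSpec) := by
    have hx : CohB1.ProjSpaceOver.toBase m X y ∈ Set.range hV.fromSpec := by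
      rw [hV.range_fromSpec]
      exact hyV
    obtain ⟨x, hx⟩ := hx
    obtain ⟨z, hz, -⟩ := exists_preimage_of_isPullback
      (Ega3A.PChart.isPullback_chart m (A := Γ(X, V)) hV.fromSpec) y x hx.symm
    exact ⟨z, hz⟩
  obtain ⟨z, rfl⟩ := h1
  obtain ⟨i, w, rfl⟩ := Sga5.ProjSmooth.exists_mem_chart m Γ(X, V) z
  exact ⟨i, w, rfl⟩

/-- `dim P^m_X ≤ dim X + m`. -/
theorem topologicalKrullDim_le {X : Scheme.{u}} [IsLocallyNoetherian X] (d : ℕ)
    (hd : topologicalKrullDim X ≤ (d : WithBot ℕ∞)) :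
    topologicalKrullDim (CohB1.ProjSpaceOver m X) ≤ ((d + m : ℕ) : WithBot ℕ∞) := by
  refine VarietyB.DimTop.topologicalKrullDim_le_of_forall fun y => ?_
  obtain ⟨V, hV, i, hy⟩ := exists_affine_chart m y
  refine ⟨_, hy, ?_⟩
  refine le_trans (le_of_eq ?_) (dim_chart_le m d hd hV)
  exact (IsHomeomorph.topologicalKrullDim_eq _
    (Scheme.Hom.isoOpensRange (Sga5.ProjSmooth.chart m Γ(X, V) i ≫
      Ega3A.PChart.chart m (A := Γ(X, V)) hV.fromSpec)).hom.homeomorph.isHomeomorph).symm

theorem nonempty_fiber_iso (X : Scheme.{u}) (y : X) :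
    Nonempty ((CohB1.ProjSpaceOver.toBase m X).fiber y ≅ CohB1.ProjSpace m (X.residueField y)) :=
  ⟨(IsPullback.of_hasPullback (CohB1.ProjSpaceOver.toBase m X)
    (X.fromSpecResidueField y)).isoIsPullback _ _
      (CohqB.ProjBC.isPullback_overMap m (X.fromSpecResidueField y)).flip.flip ≪≫
    CohqB.ProjBC.projSpaceOverIso m (X.residueField y)⟩

instance smoothOfRelativeDimension_toBase (X : Scheme.{u}) :
    SmoothOfRelativeDimension m (CohB1.ProjSpaceOver.toBase m X) := by
  have h : MorphismProperty.IsStableUnderBaseChange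
      (@SmoothOfRelativeDimension m : MorphismProperty Scheme.{u}) :=
    smoothOfRelativeDimension_isStableUnderBaseChange m
  exact MorphismProperty.of_isPullback (P := @SmoothOfRelativeDimension m)
    (IsPullback.of_hasPullback (CohB1.ProjSpace.toSpec m (ULift.{u} ℤ))
      (specULiftZIsTerminal.from X)) (Sga5.ProjSmooth.smooth_toSpec m _)

instance smooth_toBase (X : Scheme.{u}) : Smooth (CohB1.ProjSpaceOver.toBase m X) :=
  SmoothOfRelativeDimension.smooth m _

theorem isConnected_fiber (X : Scheme.{u}) (y : X) :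
    _root_.IsConnected (CohB1.ProjSpaceOver.toBase m X ⁻¹' {y}) := by
  obtain ⟨e⟩ := nonempty_fiber_iso m X y
  have h2 : ConnectedSpace ((CohB1.ProjSpaceOver.toBase m X).fiber y) :=
    (Scheme.homeoOfIso e).symm.surjective.connectedSpace (Scheme.homeoOfIso e).symm.continuous
  rw [← Scheme.Hom.range_fiberι]
  exact isConnected_range ((CohB1.ProjSpaceOver.toBase m X).fiberι y).continuous

/-- `P^m_X` is connected if `X` is. -/
theorem connectedSpace (X : Scheme.{u}) [ConnectedSpace X] : ConnectedSpace (CohB1.ProjSpaceOver m X) := by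
  have hfib := isConnected_fiber m X
  have hsurj : Function.Surjective (CohB1.ProjSpaceOver.toBase m X) := fun y => by
    obtain ⟨z, hz⟩ := (hfib y).nonempty
    exact ⟨z, hz⟩
  have hopen : IsOpenMap (CohB1.ProjSpaceOver.toBase m X) := (CohB1.ProjSpaceOver.toBase m X).isOpenMap
  have hq : IsQuotientMap (CohB1.ProjSpaceOver.toBase m X) :=
    hopen.isQuotientMap (CohB1.ProjSpaceOver.toBase m X).continuous hsurj
  obtain ⟨x⟩ : Nonempty X := inferInstance
  obtain ⟨z, hz⟩ := hsurj x
  have h1 := hq.isCoinducing.preimage_connectedComponent hfib z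
  rw [PreconnectedSpace.connectedComponent_eq_univ] at h1
  rw [connectedSpace_iff_univ]
  rw [Set.preimage_univ] at h1
  rw [h1]
  exact isConnected_connectedComponent

end Groth.Agent.Krr.H453.PnDim
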